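import Cfsg.Agent.SymPresent.Cosets
set_option autoImplicit false

/-!
Carmichael's presentation of the alternating groups on the three-cycles through two fixed points.
-/

namespace CfsgLib.FewRels

open Equiv

variable {G : Type*} [Group G]

theorem carmichael_card {κ : Type*} [DecidableEq κ] (x : κ → G) :
    ∀ S : Finset κ, (∀ i ∈ S, x i ^ 3 = 1) → (∀ i ∈ S, ∀ j ∈ S, i ≠ j → (x i * x j) ^ 2 = 1) →
    (Subgroup.closure (x '' (S : Set κ)) : Set G).Finite ∧
      Nat.card (Subgroup.closure (x '' (S : Set κ))) * 2 ≤ (S.card + 2).factorial := by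
  intro S
  induction S using Finset.induction_on with
  | empty =>
    intro _ _
    rw [Finset.coe_empty, Set.image_empty, Subgroup.closure_empty]
    exact ⟨by simp, by simp⟩
  | @insert m S hm ih =>
    intro h3 h2
    obtain ⟨hf, hc⟩ := ih (fun i hi => h3 i (Finset.mem_insert_of_mem hi))
      (fun i hi j hj => h2 i (Finset.mem_insert_of_mem hi) j (Finset.mem_insert_of_mem hj))
    set H := Subgroup.closure (x '' (S : Set κ)) with hH
    have hxH : ∀ i ∈ S, x i ∈ H := fun i hi => Subgroup.subset_closure ⟨i, hi, rfl⟩
    have hsq : ∀ i ∈ insert m S, x i * x i * x i = 1 := fun i hi => by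
      rw [← pow_two, ← pow_succ, h3 i hi]
    have hinv : ∀ i ∈ insert m S, (x i)⁻¹ = x i * x i := fun i hi =>
      inv_eq_of_mul_eq_one_left (hsq i hi)
    have hswap : ∀ i ∈ insert m S, ∀ j ∈ insert m S, i ≠ j → x i * x j = (x j * x j) * (x i * x i) := by
      intro i hi j hj hij
      rw [← hinv i hi, ← hinv j hj, ← mul_inv_rev]
      have := h2 i hi j hj hij
      rw [pow_two] at this
      exact eq_inv_of_mul_eq_one_left this
    set X := x m with hX
    have hmI : m ∈ insert m S := Finset.mem_insert_self m S
    let rep : Option (Option (Option {i // i ∈ S})) → G := fun o => match o with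
      | none => 1
      | some none => X
      | some (some none) => X * X
      | some (some (some i)) => X * X * x i.1
    obtain ⟨hf', hc'⟩ := SymPresent.card_le_of_cosets H hf (x '' ((insert m S : Finset κ) : Set κ)) rep
      ⟨none, one_mem _⟩ (by
        rintro _ ⟨i, hi, rfl⟩
        exact isOfFinOrder_iff_pow_eq_one.2 ⟨3, by norm_num, h3 i hi⟩) (by
        rintro o _ ⟨i, hi, rfl⟩
        simp only [Finset.coe_insert, Set.mem_insert_iff, Finset.mem_coe] at hi
        have hiI : i ∈ insert m S := Finset.mem_insert.mpr hi
        rcases o with - | - | - | ⟨j, hj⟩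
        · rcases hi with rfl | hi
          · exact ⟨some none, 1, one_mem _, rfl⟩
          · exact ⟨none, x i, hxH i hi, by simp [rep]⟩
        · rcases hi with rfl | hi
          · exact ⟨some (some none), 1, one_mem _, by simp [rep, hX]⟩
          · refine ⟨some (some none), x i * x i, mul_mem (hxH i hi) (hxH i hi), ?_⟩
            exact hswap m hmI i hiI (fun e => hm (e ▸ hi))
        · rcases hi with rfl | hi
          · exact ⟨none, 1, one_mem _, by simp only [rep, mul_one]; exact hsq i hiI⟩
          · exact ⟨some (some (some ⟨i, hi⟩)), 1, one_mem _, by simp [rep]⟩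
        · have hjI : j ∈ insert m S := Finset.mem_insert_of_mem hj
          have hjm : m ≠ j := fun e => hm (e ▸ hj)
          have e1 : X * (x j * x j) = (x j * x j) * (X * X * x j) := by
            rw [← mul_assoc X (x j), hX, hswap m hmI j hjI hjm]
            simp only [mul_assoc]
          have e2 : X * X = x j * X * x j := by
            have := hswap m hmI j hjI hjm
            calc X * X = x j * ((x j * x j) * (X * X)) := by
                  rw [show x j * ((x j * x j) * (X * X)) = (x j * x j * x j) * (X * X) by group, hsq j hjI, one_mul]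
              _ = _ := by rw [← this, hX]; group
          rcases hi with rfl | hi
          · refine ⟨some (some (some ⟨j, hj⟩)), x j * x j, mul_mem (hxH j hj) (hxH j hj), ?_⟩
            show X * X * x j * X = x j * x j * (X * X * x j)
            rw [← e1, mul_assoc (X * X), hswap j hjI i hiI hjm.symm, ← hX]
            rw [show X * X * ((X * X) * (x j * x j)) = (X * X * X) * (X * (x j * x j)) by group,
              show X * X * X = 1 from hsq i hiI, one_mul]
          · by_cases hij : i = j
            · subst hij
              refine ⟨some none, x i, hxH i hi, ?_⟩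
              show X * X * x i * x i = x i * X
              rw [e2, show x i * X * x i * x i * x i = x i * X * (x i * x i * x i) by group, hsq i hiI, mul_one]
            · refine ⟨some (some (some ⟨j, hj⟩)), x i * (x j * x j), mul_mem (hxH i hi) (mul_mem (hxH j hj) (hxH j hj)), ?_⟩
              show X * X * x j * x i = x i * (x j * x j) * (X * X * x j)
              have him : m ≠ i := fun e => hm (e ▸ hi)
              have e3 : X * X * (x i * x i) = x i * X := by
                have e := hswap m hmI i hiI him
                calc X * X * (x i * x i) = x i * ((x i * x i) * (X * X)) * (x i * x i) := by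
                      rw [show x i * ((x i * x i) * (X * X)) = (x i * x i * x i) * (X * X) by group, hsq i hiI, one_mul]
                  _ = x i * X * (x i * x i * x i) := by rw [← e, hX]; group
                  _ = _ := by rw [hsq i hiI, mul_one]
              rw [mul_assoc (X * X), hswap j hjI i hiI (Ne.symm hij), ← mul_assoc, e3, mul_assoc (x i), e1]
              simp only [mul_assoc])
    refine ⟨hf', ?_⟩
    simp only [Fintype.card_option, Fintype.card_coe] at hc'
    rw [Finset.card_insert_of_notMem hm, Nat.factorial_succ]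
    calc _ ≤ (S.card + 1 + 1 + 1) * Nat.card H * 2 := Nat.mul_le_mul_right 2 hc'
      _ ≤ _ := by rw [mul_assoc]; exact Nat.mul_le_mul_left _ hc

variable {α : Type*} [DecidableEq α]

/-- The three-cycle through `a`, `b` and `i`. -/
def cyc (a b i : α) : Perm α := swap a b * swap a i

theorem cyc_pow_three {a b i : α} (hab : a ≠ b) (hai : a ≠ i) (hbi : b ≠ i) [Fintype α] : cyc a b i ^ 3 = 1 := by
  have h := Perm.isThreeCycle_swap_mul_swap_same hab hai hbi
  rw [show (3 : ℕ) = orderOf (cyc a b i) from h.orderOf.symm]
  exact pow_orderOf_eq_one _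

theorem cyc_conj (g : Perm α) (a b i : α) : g * cyc a b i * g⁻¹ = cyc (g a) (g b) (g i) := by
  have h : ∀ x y, g * swap x y * g⁻¹ = swap (g x) (g y) := fun x y => by
    rw [← Equiv.swap_apply_apply g x y]
  rw [cyc, cyc, ← h, ← h]
  group

theorem cyc_swap {a b : α} (hab : a ≠ b) {i : α} (hai : a ≠ i) (hbi : b ≠ i) [Fintype α] :
    cyc b a i = (cyc a b i)⁻¹ := by
  refine eq_inv_of_mul_eq_one_left (Equiv.ext fun x => ?_)
  simp only [cyc, Perm.mul_apply, Perm.one_apply]
  rcases eq_or_ne x a with rfl | hxa
  · simp [swap_apply_def, hab, hai, hbi, hab.symm, hai.symm, hbi.symm]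
  rcases eq_or_ne x b with rfl | hxb
  · simp [swap_apply_def, hab, hai, hbi, hab.symm, hai.symm, hbi.symm]
  rcases eq_or_ne x i with rfl | hxi
  · simp [swap_apply_def, hab, hai, hbi, hab.symm, hai.symm, hbi.symm]
  · simp [swap_apply_def, hxa, hxb, hxi]

theorem cyc_mem [Fintype α] {a b i : α} (hai : a ≠ i) (hab : a ≠ b) : cyc a b i ∈ alternatingGroup α := by
  rw [Perm.mem_alternatingGroup, cyc, map_mul, Perm.sign_swap hab, Perm.sign_swap hai]; rfl

/-- The relation of Carmichael holds for the three-cycles through two fixed points. -/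
theorem cyc_rel {a b i j : α} (hab : a ≠ b) (hai : a ≠ i) (hbi : b ≠ i) (haj : a ≠ j) (hbj : b ≠ j) (hij : i ≠ j) :
    (cyc a b i * cyc a b j) ^ 2 = 1 := by
  refine Equiv.ext fun x => ?_
  simp only [pow_two, cyc, Perm.mul_apply, Perm.one_apply]
  rcases eq_or_ne x a with rfl | hxa
  · simp [swap_apply_def, hab, hai, hbi, haj, hbj, hij, hab.symm, hai.symm, hbi.symm, haj.symm, hbj.symm, hij.symm]
  rcases eq_or_ne x b with rfl | hxb
  · simp [swap_apply_def, hab, hai, hbi, haj, hbj, hij, hab.symm, hai.symm, hbi.symm, haj.symm, hbj.symm, hij.symm]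
  rcases eq_or_ne x i with rfl | hxi
  · simp [swap_apply_def, hab, hai, hbi, haj, hbj, hij, hab.symm, hai.symm, hbi.symm, haj.symm, hbj.symm, hij.symm]
  rcases eq_or_ne x j with rfl | hxj
  · simp [swap_apply_def, hab, hai, hbi, haj, hbj, hij, hab.symm, hai.symm, hbi.symm, haj.symm, hbj.symm, hij.symm]
  · simp [swap_apply_def, hxa, hxb, hxi, hxj]

/-- The three-cycles through two fixed points generate. -/
theorem closure_cyc [Fintype α] {a b : α} (hab : a ≠ b) :
    Subgroup.closure {g | ∃ i, a ≠ i ∧ b ≠ i ∧ g = cyc a b i} = alternatingGroup α := by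
  set C := Subgroup.closure {g | ∃ i, a ≠ i ∧ b ≠ i ∧ g = cyc a b i}
  refine le_antisymm ((Subgroup.closure_le _).mpr ?_) fun g hg => ?_
  · rintro _ ⟨i, hai, -, rfl⟩; exact cyc_mem hai hab
  have hC : C ≤ alternatingGroup α := by
    rw [Subgroup.closure_le]; rintro _ ⟨i, hai, -, rfl⟩; exact cyc_mem hai hab
  let D : Perm α → Prop := fun g => g ∈ C ∨ swap a b * g ∈ C
  have star : ∀ i g, D g → D (swap a i * g) := by
    intro i g hgD
    rcases eq_or_ne a i with rfl | hai
    · rwa [swap_self, ← Equiv.Perm.one_def, one_mul]
    rcases eq_or_ne b i with rfl | hbi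
    · rcases hgD with h | h
      · exact Or.inr (by rwa [← mul_assoc, swap_mul_self, one_mul])
      · exact Or.inl h
    have hc : cyc a b i ∈ C := Subgroup.subset_closure ⟨i, hai, hbi, rfl⟩
    rcases hgD with h | h
    · exact Or.inr (by rw [← mul_assoc]; exact mul_mem hc h)
    · refine Or.inl ?_
      have := mul_mem (inv_mem hc) h
      rwa [cyc, mul_inv_rev, swap_inv, swap_inv, mul_assoc, ← mul_assoc (swap a b) (swap a b), swap_mul_self, one_mul] at this
  have hD : ∀ g : Perm α, D g := by
    intro g
    induction g using Equiv.Perm.swap_induction_on with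
    | one => exact Or.inl (one_mem _)
    | swap_mul g x y hxy ih =>
      rcases eq_or_ne a x with rfl | hax
      · exact star y g ih
      rcases eq_or_ne a y with rfl | hay
      · rw [swap_comm]; exact star x g ih
      have e : swap x y = swap a x * swap a y * swap a x := by
        have := Equiv.swap_apply_apply (swap a x) a y
        rw [swap_apply_left, swap_apply_of_ne_of_ne hay.symm hxy.symm, swap_inv] at this
        exact this
      rw [e, mul_assoc, mul_assoc]
      exact star x _ (star y _ (star x g ih))
  rcases hD g with h | h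
  · exact h
  · have h1 := hC h
    rw [Perm.mem_alternatingGroup] at hg h1
    rw [map_mul, Perm.sign_swap hab, hg] at h1
    simp at h1

/-- Carmichael's relations force an isomorphism with the alternating group. -/
theorem injective_of_carmichael [Fintype α] {a b : α} (hab : a ≠ b) (π : G →* alternatingGroup α)
    (x : {i : α // a ≠ i ∧ b ≠ i} → G) (hπ : ∀ i, (π (x i) : Perm α) = cyc a b i.1) (h3 : ∀ i, x i ^ 3 = 1)
    (h2 : ∀ i j, i ≠ j → (x i * x j) ^ 2 = 1) (hgen : Subgroup.closure (Set.range x) = ⊤) : Function.Injective π := by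
  classical
  obtain ⟨hf, hc⟩ := carmichael_card x Finset.univ (fun i _ => h3 i) (fun i _ j _ => h2 i j)
  rw [Finset.coe_univ, Set.image_univ, hgen] at hf hc
  have : Finite G := Set.finite_univ_iff.mp (by simpa using hf)
  rw [Subgroup.card_top] at hc
  have hs : Function.Surjective π := by
    intro g
    have hg : g.1 ∈ Subgroup.closure {g | ∃ i, a ≠ i ∧ b ≠ i ∧ g = cyc a b i} := by rw [closure_cyc hab]; exact g.2
    have : g.1 ∈ ((alternatingGroup α).subtype.comp π).range := by
      refine (Subgroup.closure_le _).mpr ?_ hg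
      rintro _ ⟨i, hai, hbi, rfl⟩
      exact ⟨x ⟨i, hai, hbi⟩, hπ _⟩
    obtain ⟨z, hz⟩ := this
    exact ⟨z, Subtype.ext hz⟩
  have hcardι : Finset.univ.card (α := {i : α // a ≠ i ∧ b ≠ i}) + 2 = Fintype.card α := by
    rw [Finset.card_univ, Fintype.card_subtype]
    have h1 : Finset.univ.filter (fun i => a ≠ i ∧ b ≠ i) = (Finset.univ \ {a, b} : Finset α) := by
      ext i; simp [eq_comm]
    rw [h1, Finset.card_sdiff, Finset.inter_univ, Finset.card_univ, Finset.card_pair hab]
    have : ({a, b} : Finset α).card ≤ Fintype.card α := Finset.card_le_univ _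
    rw [Finset.card_pair hab] at this
    omega
  rw [hcardι] at hc
  have : Nontrivial α := ⟨⟨a, b, hab⟩⟩
  have ha := two_mul_card_alternatingGroup (α := α)
  rw [Fintype.card_perm, ← Nat.card_eq_fintype_card] at ha
  have hle : Nat.card G ≤ Nat.card (alternatingGroup α) := by omega
  exact ((Nat.bijective_iff_surjective_and_card π).mpr
    ⟨hs, le_antisymm hle (Nat.card_le_card_of_surjective π hs)⟩).1

end CfsgLib.FewRels
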